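import Cfsg.Agent.H327.RG.KillY
import Cfsg.Agent.H873.RG.Defs
import Cfsg.Agent.H240.GenTwF.TwFFix
import Cfsg.Agent.H343.PG.TwF4Fifteen
import Cfsg.Agent.H380.AltSpec

/-!
# S3509, row `²F₄(q)`, `q ≥ 8`: covers with an outer member (helper320)

* `nalt` : `²F₄(q)'` is not alternating;
* `der_RC` : `RC` for the derived group of `²F₄(q₀)`;
* `inner_of_cov` : all members of a cover are inner.
-/

set_option autoImplicit false
set_option linter.unusedSectionVars false

namespace Cfsg.Agent.H320.RF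

open MulAction Subgroup Cfsg Cfsg.Lie Cfsg.Agent.H106.RC Cfsg.Agent.H873.RG Cfsg.Agent.H327.RG
open Cfsg.Agent.H967.CopMat (Fx card_Fx)
open Cfsg.Agent.ChevalleyStructure.TwF4.TwistedFix (exists_rln Rln)
open Cfsg.Agent.KFacts.TwF4 Cfsg.Agent.KFacts.TwF4.Inst Cfsg.Agent.KFacts.TwF4.Inv
open scoped commutatorElement

/-! ### the small group -/

/-- a group without elements of order 15 and of order larger than 2520 is not alternating -/
theorem nalt_of {S : Type*} [Group S] (h15 : ¬ ∃ x : S, orderOf x = 15) (hc : 2520 < Nat.card S) :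
    ¬ IsAlternating S := by
  rintro ⟨n, hn, ⟨e⟩⟩
  by_cases h8 : 8 ≤ n
  · obtain ⟨g, hg⟩ := H380.AltSpec.exists_orderOf (n := n) {3, 5} (by simp; omega) (by
      intro a ha
      simp only [Multiset.insert_eq_cons, Multiset.mem_cons, Multiset.mem_singleton] at ha
      omega) (by
      simp only [Multiset.insert_eq_cons, Multiset.sum_cons, Multiset.sum_singleton, Multiset.card_cons,
        Multiset.card_singleton]
      exact ⟨5, rfl⟩)
    refine h15 ⟨e.symm g, ?_⟩
    rw [MulEquiv.orderOf_eq, hg]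
    simp only [Multiset.insert_eq_cons, Multiset.lcm_cons, Multiset.lcm_singleton, normalize_eq]
    rfl
  · have h1 : Nat.card S = Nat.card (alternatingGroup (Fin n)) := Nat.card_congr e.toEquiv
    have hn1 : Nontrivial (Fin n) := Fin.nontrivial_iff_two_le.2 (by omega)
    have h2 : 2 * Nat.card (alternatingGroup (Fin n)) = n.factorial := by
      rw [Nat.card_eq_fintype_card, two_mul_card_alternatingGroup, Fintype.card_perm, Fintype.card_fin]
    have h3 : n.factorial ≤ Nat.factorial 7 := Nat.factorial_le (by omega)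
    have h4 : Nat.factorial 7 = 5040 := rfl
    omega

section small

variable {E : Type} [Field E] [Fintype E] {j : ℕ}

/-- the facts on the derived group of `²F₄(q)`, `q = 2, 8, 32, …` -/
structure Der (H : Type*) [Group H] : Prop where
  simple : IsSimpleGroup ↥(commutator H)
  ncomm : ¬ IsMulCommutative ↥(commutator H)
  cent : ∀ r : H, (∀ a ∈ commutator H, r * a = a * r) → r = 1
  nalt : ¬ IsAlternating ↥(commutator H)

theorem ord_lt {q : ℕ} (h : 8 ≤ q) : 2520 < q ^ 12 * (q - 1) * (q ^ 3 + 1) * (q ^ 4 - 1) * (q ^ 6 + 1) := by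
  have h1 : 2520 < q ^ 12 := lt_of_lt_of_le (by norm_num) (Nat.pow_le_pow_left h 12)
  have h2 : 1 ≤ q - 1 := by omega
  have h4 : 1 ≤ q ^ 4 - 1 := by
    have : 8 ^ 4 ≤ q ^ 4 := Nat.pow_le_pow_left h 4
    omega
  calc 2520 < q ^ 12 := h1
    _ = q ^ 12 * 1 * 1 * 1 * 1 := by ring
    _ ≤ q ^ 12 * (q - 1) * (q ^ 3 + 1) * (q ^ 4 - 1) * (q ^ 6 + 1) := by
        gcongr
        · omega
        · omega

theorem der (hE : Fintype.card E = 2 ^ (2 * j + 1)) : Der ↥(twistedF4 E (2 ^ j)) := by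
  have h15 := Cfsg.Agent.H343.PG.TwF4Fifteen.not_exists_fifteen hE
  have h15' : ¬ ∃ x : ↥(commutator ↥(twistedF4 E (2 ^ j))), orderOf x = 15 := by
    rintro ⟨x, hx⟩
    exact h15 ⟨x, by rw [Subgroup.orderOf_coe, hx]⟩
  rcases Nat.eq_zero_or_pos j with h0 | h0
  · subst h0
    obtain ⟨c1, s1, na1, z1⟩ := Cfsg.Agent.H270.StrP.tf4_two (E := E) (by rw [hE]; norm_num) (d := 2 ^ 0) (pow_zero 2)
    refine ⟨s1, na1, fun r hr => z1 r ?_, nalt_of h15' (by rw [c1]; norm_num)⟩
    rw [mem_centralizer_iff]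
    exact fun a ha => (hr a ha).symm
  · obtain ⟨hs, hna⟩ := Cfsg.Agent.S1072.result h0 hE
    have hna' : ¬ IsMulCommutative ↥(twistedF4 E (2 ^ j)) := hna
    have htop : commutator ↥(twistedF4 E (2 ^ j)) = ⊤ := by
      rcases hs.eq_bot_or_eq_top_of_normal (commutator ↥(twistedF4 E (2 ^ j))) inferInstance with h | h
      · exfalso
        apply hna'
        refine ⟨⟨fun a b => ?_⟩⟩
        have h2 : ⁅a, b⁆ ∈ commutator ↥(twistedF4 E (2 ^ j)) :=
          Subgroup.commutator_mem_commutator (Subgroup.mem_top a) (Subgroup.mem_top b)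
        rw [h, Subgroup.mem_bot, commutatorElement_eq_one_iff_mul_comm] at h2
        exact h2
      · exact h
    have e : ↥(twistedF4 E (2 ^ j)) ≃* ↥(commutator ↥(twistedF4 E (2 ^ j))) :=
      Subgroup.topEquiv.symm.trans (MulEquiv.subgroupCongr htop.symm)
    refine ⟨isSimple_cgr0 e hs, fun hc => hna' ⟨⟨fun a b => ?_⟩⟩, fun r hr => ?_, nalt_of h15' ?_⟩
    · apply e.injective
      rw [map_mul, map_mul]
      exact hc.is_comm.comm _ _
    · have h1 : r ∈ center ↥(twistedF4 E (2 ^ j)) := by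
        rw [mem_center_iff]
        intro a
        exact (hr a (by rw [htop]; exact mem_top _)).symm
      rw [Cfsg.Agent.H240.GenTwF.center_bot hna', mem_bot] at h1
      exact h1
    · rw [← Nat.card_congr e.toEquiv, Cfsg.Agent.S1068.result hE]
      exact ord_lt (by
        calc 8 = 2 ^ 3 := by norm_num
          _ ≤ 2 ^ (2 * j + 1) := Nat.pow_le_pow_right (by norm_num) (by omega))

end small

/-! ### automorphisms of the field -/

section field

variable {K : Type} [Field K] [Fintype K]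

/-- an automorphism of prime order `r` does not fix the fixed field of one of prime order `p ≠ r` -/
theorem fld_eq_one {ρ τ : K ≃+* K} {p r : ℕ} (hp : p.Prime) (hr : r.Prime) (hpr : r ≠ p) (hρ : orderOf ρ = p)
    (hτ : τ ^ r = 1) (hfix : ∀ t ∈ Fx ρ, τ t = t) : τ = 1 := by
  let τ' : K ≃ₐ[↥(Fx ρ)] K := AlgEquiv.ofRingEquiv (f := τ) (fun t => hfix t t.2)
  have hgal : IsGalois ↥(Fx ρ) K := inferInstance
  have h1 : Nat.card K = Nat.card ↥(Fx ρ) ^ Module.finrank ↥(Fx ρ) K := Module.natCard_eq_pow_finrank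
  have h2 := card_Fx ρ
  rw [hρ] at h2
  have h3 : 1 < Nat.card ↥(Fx ρ) := Finite.one_lt_card
  have h4 : Module.finrank ↥(Fx ρ) K = p := Nat.pow_right_injective h3 (h1.symm.trans h2)
  have h5 : Nat.card (K ≃ₐ[↥(Fx ρ)] K) = p := by
    rw [IsGalois.card_aut_eq_finrank, h4]
  have h6 : τ' ^ p = 1 := by rw [← h5]; exact pow_card_eq_one'
  have hpow : ∀ (n : ℕ) (t : K), (τ' ^ n) t = (τ ^ n) t := by
    intro n
    induction n with
    | zero => intro t; rfl
    | succ n ih =>
      intro t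
      rw [pow_succ', pow_succ', AlgEquiv.mul_apply, RingAut.mul_apply, ih]
      rfl
  have h7 : τ ^ p = 1 := by
    ext t
    rw [← hpow, h6]
    rfl
  have h8 : orderOf τ ∣ Nat.gcd r p := Nat.dvd_gcd (orderOf_dvd_of_pow_eq_one hτ) (orderOf_dvd_of_pow_eq_one h7)
  rw [(Nat.coprime_primes hr hp).2 hpr, Nat.dvd_one] at h8
  exact orderOf_eq_one_iff.1 h8

/-- no automorphism of order two -/
theorem sq_eq_one {m : ℕ} (hK : Fintype.card K = 2 ^ (2 * m + 1)) {τ : K ≃+* K} (h : τ ^ 2 = 1) : τ = 1 := by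
  by_contra hne
  have h2 : orderOf τ = 2 := by
    have : Fact (Nat.Prime 2) := ⟨Nat.prime_two⟩
    exact orderOf_eq_prime h hne
  have h1 := card_Fx τ
  rw [h2, Nat.card_eq_fintype_card, hK] at h1
  have h3 : Nat.card ↥(Fx τ) ∣ 2 ^ (2 * m + 1) := by
    rw [h1, pow_two]
    exact dvd_mul_left _ _
  obtain ⟨a, -, ha⟩ := (Nat.dvd_prime_pow Nat.prime_two).1 h3
  rw [ha, ← pow_mul] at h1
  have := Nat.pow_right_injective le_rfl h1
  omega

theorem aut_comm (τ ρ : K ≃+* K) : τ * ρ = ρ * τ := by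
  have : IsCyclic (K ≃+* K) := LieRecognition.FieldSemilinear.isCyclic_ringAut K
  exact (IsCyclic.commGroup (α := K ≃+* K)).mul_comm τ ρ

end field

end Cfsg.Agent.H320.RF
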