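import Cfsg.Agent.H320.RF.Out
import Cfsg.Agent.H240.BalTwF.Dvd

/-!
# S3509, row `²F₄(q)`, `q ≥ 8`: covers with an outer member, the end (helper320)

* `not_cent` : an automorphism of prime order `r ≠ p` commuting with a field automorphism `ψ` of prime order `p` does not
  centralise the derived group of the fixed points of `ψ`;
* `inner_of_cov` : all members of a cover are inner.
-/

set_option autoImplicit false
set_option linter.unusedSectionVars false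

namespace Cfsg.Agent.H320.RF

open MulAction Subgroup Cfsg Cfsg.Lie Cfsg.Agent.H106.RC Cfsg.Agent.H873.RG Cfsg.Agent.H327.RG
open Cfsg.Agent.H967.CopMat (Fx card_Fx)
open Cfsg.Agent.ChevalleyStructure.TwF4.TwistedFix (exists_rln Rln)
open Cfsg.Agent.KFacts.TwF4 Cfsg.Agent.KFacts.TwF4.Inst Cfsg.Agent.KFacts.TwF4.Inv
open Cfsg.Agent.SplitTwo Cfsg.Agent.SplitTwo.ZS Cfsg.Agent.TitsThree.RankTwoZ Cfsg.Agent.SplitTwo.RootSysZ
open scoped commutatorElement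

section abs

variable {Y H : Type*} [Group Y] [Group H]

/-- the derived group of the fixed points -/
def MM (f : H →* Y) : Subgroup Y := (commutator H).map f

theorem MM_eq (f : H →* Y) : MM f = ⁅f.range, f.range⁆ := by
  rw [MM, commutator_def, Subgroup.map_commutator, ← MonoidHom.range_eq_map]

theorem MM_le (f : H →* Y) : MM f ≤ f.range := by
  rintro _ ⟨a, -, rfl⟩
  exact ⟨a, rfl⟩

variable {f : H →* Y} {ψ : MulAut Y} (hfix : ∀ g, ψ g = g ↔ g ∈ f.range)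

include hfix in
theorem range_pres {α : MulAut Y} (hα : α * ψ = ψ * α) {a : Y} (ha : a ∈ f.range) : α a ∈ f.range := by
  rw [← hfix] at ha ⊢
  rw [← MulAut.mul_apply, ← hα, MulAut.mul_apply, ha]

include hfix in
theorem MM_pres {α : MulAut Y} (hα : α * ψ = ψ * α) {a : Y} (ha : a ∈ MM f) : α a ∈ MM f := by
  rw [MM_eq] at ha ⊢
  have h1 : (⁅f.range, f.range⁆ : Subgroup Y).map α.toMonoidHom ≤ ⁅f.range, f.range⁆ := by
    rw [map_commutator]
    refine commutator_mono ?_ ?_ <;>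
    · rintro _ ⟨b, hb, rfl⟩
      exact range_pres hfix hα hb
  exact h1 ⟨a, ha, rfl⟩

include hfix in
/-- trivial on the derived group of the fixed points, trivial on the fixed points -/
theorem triv_range (hf : Function.Injective f) (hD : Der H) {α : MulAut Y} (hα : α * ψ = ψ * α)
    (hc : ∀ a ∈ MM f, α a = a) {b : Y} (hb : b ∈ f.range) : α b = b := by
  obtain ⟨b, rfl⟩ := hb
  obtain ⟨c, hc'⟩ := range_pres hfix hα (a := f b) ⟨b, rfl⟩
  have h1 : b⁻¹ * c = 1 := by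
    refine hD.cent _ fun a ha => ?_
    have h2 : b * a * b⁻¹ ∈ commutator H := (inferInstance : (commutator H).Normal).conj_mem a ha b
    have h3 := hc (f (b * a * b⁻¹)) ⟨_, h2, rfl⟩
    rw [map_mul, map_mul, map_mul, map_mul, map_inv, map_inv, ← hc', hc (f a) ⟨a, ha, rfl⟩, ← map_inv, ← map_inv,
      ← map_mul, ← map_mul, ← map_mul, ← map_mul] at h3
    have h4 := hf h3
    calc b⁻¹ * c * a = b⁻¹ * (c * a * c⁻¹) * c := by group
      _ = b⁻¹ * (b * a * b⁻¹) * c := by rw [h4]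
      _ = a * (b⁻¹ * c) := by group
  rw [← hc', ← inv_mul_eq_one.1 h1]

end abs

section model

variable {K : Type} [Field K] [Fintype K] {m : ℕ}

/-- fixing the root elements of the small group -/
theorem agree {F₀ F : Type*} [Field F₀] [Field F] {σ₀ : F₀ →+* F₀} {H Y : Type*} [Group H] [Group Y] (S₀ : Full σ₀ H)
    (D : Subgroup H) (ho : ∀ a t, S₀.o a t ∈ D) (he : ∀ a p u, S₀.e a p u ∈ D) : D = ⊤ := by
  have hX : ∀ k : ℤ, S₀.XZ k ≤ D := by
    intro k x hx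
    obtain ⟨a, h | h⟩ := Int.even_or_odd' k
    · rw [h] at hx
      obtain ⟨p, u, rfl⟩ := (S₀.mem_XZ_even a x).1 hx
      exact he _ _ _
    · rw [h] at hx
      obtain ⟨t, rfl⟩ := (S₀.mem_XZ_odd a x).1 hx
      exact ho _ _
  exact eq_top_of S₀ (hX 0) (hX 1) (hX 8) (hX 9)

/-- **no other member centralises the derived group** -/
theorem not_cent (hm : 1 ≤ m) (hK : Fintype.card K = 2 ^ (2 * m + 1)) {ρ : K ≃+* K} {j s p : ℕ} (hp : p.Prime)
    (hρ : orderOf ρ = p) (hms : m = (2 * j + 1) * s + j) (hFx : Nat.card ↥(Fx ρ) = 2 ^ (2 * j + 1))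
    [CharP K 2] [CharP ↥(Fx ρ) 2] {φ : K →+* K} (hφ : Rln φ (2 ^ m)) {φ₀ : ↥(Fx ρ) →+* ↥(Fx ρ)} (hφ₀ : Rln φ₀ (2 ^ j))
    (f : ↥(twistedF4 ↥(Fx ρ) (2 ^ j)) →* ↥(twistedF4 K (2 ^ m))) (hf : Function.Injective f)
    (hfix : ∀ g, S2128.fld ρ (2 ^ m) g = g ↔ g ∈ f.range) (ho : ∀ a t, f (ro hφ₀ a t) = ro hφ a (t : K))
    (he : ∀ a p u, f (re hφ₀ a p u) = re hφ a (p : K) (u : K))
    {α : MulAut ↥(twistedF4 K (2 ^ m))} {r : ℕ} (hr : r.Prime) (hrp : r ≠ p) (hαr : α ^ r = 1) (hα1 : α ≠ 1)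
    (hα : α * S2128.fld ρ (2 ^ m) = S2128.fld ρ (2 ^ m) * α) (hc : ∀ a ∈ MM f, α a = a) : False := by
  have hfinE : Fintype ↥(Fx ρ) := Fintype.ofFinite _
  have hE' : Fintype.card ↥(Fx ρ) = 2 ^ (2 * j + 1) := by rw [← Nat.card_eq_fintype_card, hFx]
  have hD : Der ↥(twistedF4 ↥(Fx ρ) (2 ^ j)) := der hE'
  obtain ⟨hs0, hna0⟩ := Cfsg.Agent.S1072.result hm hK
  have hna : ¬ IsMulCommutative ↥(twistedF4 K (2 ^ m)) := hna0
  have hz := Cfsg.Agent.H240.GenTwF.center_bot hna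
  have hci := Cfsg.Agent.H240.GenTwF.conj_injective hz
  obtain ⟨g, τ, hgτ⟩ := Cfsg.Agent.H71.FldAut.twF4_aut hm hK α
  -- `g` is fixed by `ψ`
  have hψg : S2128.fld ρ (2 ^ m) g = g := by
    apply hci
    have h1 : MulAut.conj (S2128.fld ρ (2 ^ m) g) * S2128.fld ρ (2 ^ m) = S2128.fld ρ (2 ^ m) * MulAut.conj g := by
      ext y : 1
      rw [MulAut.mul_apply, MulAut.mul_apply, MulAut.conj_apply, MulAut.conj_apply, map_mul, map_mul, map_inv]
    have h2 : S2128.fld ρ (2 ^ m) * S2128.fld τ (2 ^ m) = S2128.fld τ (2 ^ m) * S2128.fld ρ (2 ^ m) := by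
      rw [← Cfsg.Agent.H71.FldAut.fldF_mul, ← Cfsg.Agent.H71.FldAut.fldF_mul, aut_comm]
    rw [hgτ, ← mul_assoc, ← h1, mul_assoc, mul_assoc, h2] at hα
    exact (mul_right_cancel hα).symm
  obtain ⟨g₀, rfl⟩ := (hfix g).1 hψg
  have htriv : ∀ b : ↥(twistedF4 ↥(Fx ρ) (2 ^ j)), α (f b) = f b := fun b => triv_range hfix hf hD hα hc ⟨b, rfl⟩
  have hαb : ∀ b, f g₀ * S2128.fld τ (2 ^ m) (f b) * (f g₀)⁻¹ = f b := by
    intro b
    have h1 := htriv b
    rw [hgτ, MulAut.mul_apply, MulAut.conj_apply] at h1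
    exact h1
  -- `τ` preserves the fixed field
  have hτE : ∀ t : ↥(Fx ρ), τ (t : K) ∈ Fx ρ := by
    intro t
    have ht : ρ (t : K) = t := t.2
    show ρ (τ (t : K)) = τ (t : K)
    rw [← RingAut.mul_apply, ← aut_comm, RingAut.mul_apply, ht]
  have hτE' : ∀ t : ↥(Fx ρ), τ⁻¹ (t : K) ∈ Fx ρ := by
    intro t
    have ht : ρ (t : K) = t := t.2
    show ρ (τ⁻¹ (t : K)) = τ⁻¹ (t : K)
    rw [← RingAut.mul_apply, ← aut_comm, RingAut.mul_apply, ht]
  let τ₀ : ↥(Fx ρ) ≃+* ↥(Fx ρ) :=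
    { toFun := fun t => ⟨τ t, hτE t⟩
      invFun := fun t => ⟨τ⁻¹ t, hτE' t⟩
      left_inv := fun t => Subtype.ext (by
        show τ⁻¹ (τ (t : K)) = t
        rw [← RingAut.mul_apply, inv_mul_cancel]; rfl)
      right_inv := fun t => Subtype.ext (by
        show τ (τ⁻¹ (t : K)) = t
        rw [← RingAut.mul_apply, mul_inv_cancel]; rfl)
      map_mul' := fun a b => Subtype.ext (map_mul τ _ _)
      map_add' := fun a b => Subtype.ext (map_add τ _ _) }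
  have hτ₀ : ∀ t : ↥(Fx ρ), ((τ₀ t : ↥(Fx ρ)) : K) = τ (t : K) := fun t => rfl
  have hτ1 : ∀ t, τ₀ t = t := by
    refine S2128.eq_one_of_conj (full hE' hφ₀) (g := g₀⁻¹) (τ := τ₀) (fun a t => ?_) (fun a q u => ?_)
    · apply hf
      show f (g₀⁻¹ * ro hφ₀ a t * g₀⁻¹⁻¹) = f (ro hφ₀ a (τ₀ t))
      have h1 := hαb (ro hφ₀ a t)
      rw [ho, S2128.fld_ro τ hφ] at h1
      rw [inv_inv, map_mul, map_mul, map_inv, ho, ho, hτ₀, ← h1]
      group
    · apply hf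
      show f (g₀⁻¹ * re hφ₀ a q u * g₀⁻¹⁻¹) = f (re hφ₀ a (τ₀ q) (τ₀ u))
      have h1 := hαb (re hφ₀ a q u)
      rw [he, S2128.fld_re τ hφ] at h1
      rw [inv_inv, map_mul, map_mul, map_inv, he, he, hτ₀, hτ₀, ← h1]
      group
  have hτK : ∀ t ∈ Fx ρ, τ t = t := fun t ht => congrArg Subtype.val (hτ1 ⟨t, ht⟩)
  -- `fld τ` fixes the small group
  have hfl : ∀ b, S2128.fld τ (2 ^ m) (f b) = f b := by
    obtain ⟨D, hDd⟩ : ∃ D : Subgroup ↥(twistedF4 ↥(Fx ρ) (2 ^ j)), ∀ b, b ∈ D ↔ S2128.fld τ (2 ^ m) (f b) = f b :=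
      ⟨(MonoidHom.eqLocus ((S2128.fld τ (2 ^ m)).toMonoidHom.comp f) f), fun b => Iff.rfl⟩
    have h1 : D = ⊤ := agree (F := K) (Y := ↥(twistedF4 K (2 ^ m))) (full hE' hφ₀) D
      (fun a t => by
        rw [hDd]
        show S2128.fld τ (2 ^ m) (f (ro hφ₀ a t)) = f (ro hφ₀ a t)
        rw [ho, S2128.fld_ro τ hφ, hτK _ t.2])
      (fun a q u => by
        rw [hDd]
        show S2128.fld τ (2 ^ m) (f (re hφ₀ a q u)) = f (re hφ₀ a q u)
        rw [he, S2128.fld_re τ hφ, hτK _ q.2, hτK _ u.2])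
    intro b
    rw [← hDd, h1]
    exact mem_top _
  have hg1 : g₀ = 1 := by
    refine hD.cent _ fun a _ => hf ?_
    have h1 := hαb a
    rw [hfl] at h1
    rw [map_mul, map_mul]
    exact mul_inv_eq_iff_eq_mul.1 h1
  rw [hg1, map_one, map_one, one_mul] at hgτ
  have hpow : ∀ n : ℕ, S2128.fld (τ ^ n) (2 ^ m) = (S2128.fld τ (2 ^ m) : MulAut ↥(twistedF4 K (2 ^ m))) ^ n := by
    intro n
    induction n with
    | zero => rw [pow_zero, pow_zero]; exact Cfsg.Agent.H628.ZTwF4Out.fldF_one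
    | succ n ih => rw [pow_succ, pow_succ, Cfsg.Agent.H71.FldAut.fldF_mul, ih]
  have hτr : τ ^ r = 1 := by
    refine Cfsg.Agent.H240.BalTwF.tau_uniq hK (a := 1) (b := 1) ?_
    rw [hpow, ← hgτ, hαr, Cfsg.Agent.H628.ZTwF4Out.fldF_one]
  have hτ1' := fld_eq_one hp hr hrp hρ hτr hτK
  rw [hτ1', Cfsg.Agent.H628.ZTwF4Out.fldF_one] at hgτ
  exact hα1 hgτ

/-- the end: `u = e 2 0 1` -/
theorem fin_end {F : Type*} [Field F] {σ : F →+* F} {Y : Type*} [Group Y] (S : Full σ Y) {s : F} (hs : s ≠ 0) :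
    ⁅S.o 1 s, S.e 3 s⁻¹ 0⁆ = S.e 2 0 1 := by
  have r1 : S.o 1 s * S.e 3 s⁻¹ 0 = S.e 3 s⁻¹ 0 * S.o 1 s * S.e 2 0 (s * s⁻¹) := S.o_e2 1 s s⁻¹ 0
  rw [mul_inv_cancel₀ hs] at r1
  have h3 : S.o 1 s * S.e 2 0 1 = S.e 2 0 1 * S.o 1 s :=
    S.comm_Z4 (k := 3) (by norm_num) (by norm_num) (by have := S.o_mem 1 s; push_cast at this; exact this) 1
  have h6 : S.e 3 s⁻¹ 0 * S.e 2 0 1 = S.e 2 0 1 * S.e 3 s⁻¹ 0 :=
    S.comm_Z4 (k := 6) (by norm_num) (by norm_num) (by have := S.e_mem 3 s⁻¹ 0; push_cast at this; exact this) 1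
  rw [commutatorElement_def, r1]
  calc S.e 3 s⁻¹ 0 * S.o 1 s * S.e 2 0 1 * (S.o 1 s)⁻¹ * (S.e 3 s⁻¹ 0)⁻¹ =
      S.e 3 s⁻¹ 0 * (S.o 1 s * S.e 2 0 1) * (S.o 1 s)⁻¹ * (S.e 3 s⁻¹ 0)⁻¹ := by group
    _ = (S.e 3 s⁻¹ 0 * S.e 2 0 1) * (S.e 3 s⁻¹ 0)⁻¹ := by rw [h3]; group
    _ = S.e 2 0 1 := by rw [h6]; group

/-- **Row `²F₄(q)`, `q ≥ 8`: all members of a cover are inner.** -/
theorem inner_of_cov (hm : 1 ≤ m) (hK : Fintype.card K = 2 ^ (2 * m + 1))
    (hIH : IHx (Nat.card ↥(twistedF4 K (2 ^ m))))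
    {G Ω ι : Type*} [Group G] [MulAction G Ω] [Nonempty Ω] [Finite ι] {N : Subgroup G} (hE : Env G Ω N)
    (e : N ≃* ↥(twistedF4 K (2 ^ m))) {x : ι → G} {r : ι → ℕ} (hx : PF x r) (hcov : Cov Ω x) (i₀ : ι) :
    ∃ g, act hE e (x i₀) = MulAut.conj g := by
  by_contra hni
  have h2p : Fact (Nat.Prime 2) := ⟨Nat.prime_two⟩
  have hcK : CharP K 2 := Cfsg.Agent.ChevalleyStructure.TwF4.Twisted.charP_two hK
  have hpK : PerfectRing K 2 := inferInstance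
  have hfin : Finite ↥(twistedF4 K (2 ^ m)) := inferInstance
  obtain ⟨hs0, hna0⟩ := Cfsg.Agent.S1072.result hm hK
  have hna : ¬ IsMulCommutative ↥(twistedF4 K (2 ^ m)) := hna0
  have hxp : act hE e (x i₀) ^ r i₀ = 1 := by rw [← map_pow, hx.pow, map_one]
  have hx1 : act hE e (x i₀) ≠ 1 := act_ne_one hE e (hx.ne i₀)
  have hor : orderOf (act hE e (x i₀)) = r i₀ := by
    have : Fact (r i₀).Prime := ⟨hx.prime i₀⟩
    exact orderOf_eq_prime hxp hx1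
  -- the order is odd
  have hr2 : r i₀ ≠ 2 := by
    intro h2
    obtain ⟨g, τ, hg⟩ := Cfsg.Agent.H71.FldAut.twF4_aut hm hK (act hE e (x i₀))
    have h3 : τ ^ 2 = 1 := by
      rw [h2] at hxp
      obtain ⟨N, hN⟩ := Cfsg.Agent.H628.ZTwF4Out.pow_form (g0 := g) (τ := τ) 2
      rw [← hg, hxp] at hN
      refine (Cfsg.Agent.H240.BalTwF.tau_uniq hK (a := 1) (b := N) (τ := 1) ?_).symm
      rw [Cfsg.Agent.H628.ZTwF4Out.fldF_one, map_one, one_mul]
      exact hN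
    rw [sq_eq_one hK h3, Cfsg.Agent.H628.ZTwF4Out.fldF_one, mul_one] at hg
    exact hni ⟨g, hg⟩
  obtain ⟨ρ, j, s, i, δ, hms, hFx, hi, he⟩ := Cfsg.Agent.H628.BalTwF4.exists_std hK hm (hx.prime i₀) hr2 _ hor hni
  -- the standard form
  obtain ⟨e', he'⟩ : ∃ e' : N ≃* ↥(twistedF4 K (2 ^ m)), e' = e.trans (δ⁻¹ : MulAut ↥(twistedF4 K (2 ^ m))) := ⟨_, rfl⟩
  have hact : ∀ g, act hE e' g = δ⁻¹ * act hE e g * δ := by
    intro g
    rw [he', act_conj, inv_inv]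
  obtain ⟨ψ, hψ⟩ : ∃ ψ : MulAut ↥(twistedF4 K (2 ^ m)), ψ = S2128.fld ρ (2 ^ m) := ⟨_, rfl⟩
  have hψi : act hE e' (x i₀) ^ i = ψ := by
    have h1 : (δ⁻¹ * act hE e (x i₀) * δ) ^ i = δ⁻¹ * act hE e (x i₀) ^ i * δ := by
      have := conj_pow (a := δ⁻¹) (b := act hE e (x i₀)) (i := i)
      rwa [inv_inv] at this
    rw [hact, h1, he, hψ]
    group
  have hψp : ψ ^ r i₀ = 1 := by
    rw [← hψi, ← pow_mul, mul_comm, pow_mul, ← map_pow, hx.pow, map_one, one_pow]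
  have hψ1 : ψ ≠ 1 := by
    intro h1
    rw [← hψ, h1, mul_one, mul_inv_cancel] at he
    have h2 := orderOf_dvd_of_pow_eq_one he
    rw [hor] at h2
    have h3 := Nat.dvd_gcd h2 (dvd_refl (r i₀))
    rw [hi, Nat.dvd_one] at h3
    exact (hx.prime i₀).one_lt.ne' h3
  have hpow : ∀ n : ℕ, S2128.fld (ρ ^ n) (2 ^ m) = (S2128.fld ρ (2 ^ m) : MulAut ↥(twistedF4 K (2 ^ m))) ^ n := by
    intro n
    induction n with
    | zero => rw [pow_zero, pow_zero]; exact Cfsg.Agent.H628.ZTwF4Out.fldF_one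
    | succ n ih => rw [pow_succ, pow_succ, Cfsg.Agent.H71.FldAut.fldF_mul, ih]
  have hρ : orderOf ρ = r i₀ := by
    have : Fact (r i₀).Prime := ⟨hx.prime i₀⟩
    refine orderOf_eq_prime ?_ ?_
    · refine Cfsg.Agent.H240.BalTwF.tau_uniq hK (a := 1) (b := 1) ?_
      rw [hpow, ← hψ, hψp, Cfsg.Agent.H628.ZTwF4Out.fldF_one]
    · intro h1
      apply hψ1
      rw [hψ, h1]
      exact Cfsg.Agent.H628.ZTwF4Out.fldF_one
  -- the small group
  have hfinE : Fintype ↥(Fx ρ) := Fintype.ofFinite _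
  have hE' : Fintype.card ↥(Fx ρ) = 2 ^ (2 * j + 1) := by rw [← Nat.card_eq_fintype_card, hFx]
  have hch₀ : CharP ↥(Fx ρ) 2 := Cfsg.Agent.ChevalleyStructure.TwF4.Twisted.charP_two hE'
  obtain ⟨φ, hφ⟩ := exists_rln hK
  obtain ⟨φ₀, hφ₀⟩ := exists_rln hE'
  obtain ⟨f, hf, hfix, ho, hee⟩ := Cfsg.Agent.H240.GenTwF.exists_emb hK ρ hFx (j := s) (by rw [hms]; ring) hφ hφ₀
  have hfix' : ∀ g, ψ g = g ↔ g ∈ f.range := by rw [hψ]; exact hfix
  have hD : Der ↥(twistedF4 ↥(Fx ρ) (2 ^ j)) := der hE'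
  have eM : ↥(commutator ↥(twistedF4 ↥(Fx ρ) (2 ^ j))) ≃* ↥(MM f) :=
    (commutator ↥(twistedF4 ↥(Fx ρ) (2 ^ j))).equivMapOfInjective f hf
  have hMs : IsSimpleGroup ↥(MM f) := isSimple_cgr0 eM hD.simple
  have hMn : ¬ IsMulCommutative ↥(MM f) := fun hc => hD.ncomm ⟨⟨fun a b => by
    apply eM.injective
    rw [map_mul, map_mul]
    exact hc.is_comm.comm _ _⟩⟩
  -- a moved element of the field
  obtain ⟨t, ht⟩ : ∃ t : K, ρ t ≠ t := by
    by_contra hall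
    push Not at hall
    apply hψ1
    rw [hψ, show ρ = 1 from RingEquiv.ext hall]
    exact Cfsg.Agent.H628.ZTwF4Out.fldF_one
  have hst : ρ t + t ≠ 0 := fun h0 => ht (CharTwo.add_eq_zero.1 h0)
  -- `MM f` is proper
  have hlt : Nat.card ↥(MM f) < Nat.card ↥(twistedF4 K (2 ^ m)) := by
    have h1 : f.range ≠ ⊤ := by
      intro htop
      apply ht
      have h2 : ro hφ 1 t ∈ f.range := by rw [htop]; exact mem_top _
      rw [← hfix, S2128.fld_ro ρ hφ] at h2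
      exact (full hK hφ).injO 1 h2
    have h2 : Nat.card ↥(MM f) ≤ Nat.card ↥f.range := Subgroup.card_le_of_le (MM_le f)
    have h3 : Nat.card ↥f.range < Nat.card ↥(twistedF4 K (2 ^ m)) :=
      lt_of_not_ge fun hle => h1 (Subgroup.eq_top_of_le_card _ hle)
    exact lt_of_le_of_lt h2 h3
  have hRC : RC ↥(MM f) := hIH ↥(MM f) ⟨hMs, hMn, fun ⟨n, hn, ⟨e0⟩⟩ => hD.nalt ⟨n, hn, ⟨eM.trans e0⟩⟩⟩ hlt
  have hcomm : ∀ k, act hE e' (x k) * ψ = ψ * act hE e' (x k) := by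
    intro k
    rw [← hψi, ← map_pow, ← map_mul, ← map_mul]
    congr 1
    have : Commute (x k) (x i₀) := hx.comm k i₀
    exact this.pow_right i
  -- the end
  set S := full hK hφ with hS
  have hu : S.e 2 0 1 ∈ MM f := by
    refine ⟨⁅ro hφ₀ 1 1, re hφ₀ 3 1 0⁆, ?_, ?_⟩
    · rw [_root_.commutator_def]
      exact commutator_mem_commutator (mem_top _) (mem_top _)
    · rw [map_commutatorElement, ho, hee]
      have := fin_end S (s := (1 : K)) one_ne_zero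
      rw [inv_one] at this
      exact this
  refine out_killY hE e' hx hcov hMs hMn hRC (fun k a ha => MM_pres hfix' (hcomm k) ha) (i₀ := i₀) (fun k hk hall => ?_)
    hu (fun h1 => one_ne_zero (S.e_eq_one h1).2) (a := S.o 1 t) (b := S.e 3 (ρ t + t)⁻¹ 0)
    (S.comm_Z4 (k := 3) (by norm_num) (by norm_num) (by have := S.o_mem 1 t; push_cast at this; exact this) 1)
    (S.comm_Z4 (k := 6) (by norm_num) (by norm_num)
      (by have := S.e_mem 3 (ρ t + t)⁻¹ 0; push_cast at this; exact this) 1) (k := i) ?_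
  · have hkp : r k ≠ r i₀ := fun h => hk (hx.inj h)
    refine not_cent hm hK (hx.prime i₀) hρ hms hFx hφ hφ₀ f hf hfix ho hee (hx.prime k) hkp (α := act hE e' (x k))
      (by rw [← map_pow, hx.pow, map_one]) (act_ne_one hE e' (hx.ne k)) (by rw [← hψ]; exact hcomm k) hall
  · rw [hψi, hψ]
    have h1 : S2128.fld ρ (2 ^ m) (S.o 1 t) = S.o 1 (ρ t) := S2128.fld_ro ρ hφ 1 t
    have h2 : (S.o 1 t)⁻¹ = S.o 1 t := inv_eq_of_mul_eq_one_left (o_sq S 1 t)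
    rw [h1, h2, S.o_add]
    exact fin_end S hst

/-- the members of a cover lie in `N` -/
theorem mem_of_cov (hm : 1 ≤ m) (hK : Fintype.card K = 2 ^ (2 * m + 1))
    (hIH : IHx (Nat.card ↥(twistedF4 K (2 ^ m))))
    {G Ω ι : Type*} [Group G] [MulAction G Ω] [Nonempty Ω] [Finite ι] {N : Subgroup G} (hE : Env G Ω N)
    (e : N ≃* ↥(twistedF4 K (2 ^ m))) {x : ι → G} {r : ι → ℕ} (hx : PF x r) (hcov : Cov Ω x) (i : ι) : x i ∈ N := by
  obtain ⟨g, hg⟩ := inner_of_cov hm hK hIH hE e hx hcov i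
  have h1 : act hE e (e.symm g : G) = MulAut.conj g := by
    ext y : 1
    apply e.symm.injective
    apply Subtype.ext
    rw [coe_act, MulAut.conj_apply, map_mul, map_mul, map_inv]
    rfl
  have h2 : x i = (e.symm g : G) := act_injective hE e (hg.trans h1.symm)
  rw [h2]
  exact (e.symm g).2

end model

end Cfsg.Agent.H320.RF
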